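import Cfsg.Agent.Cit.Nil.End
import Cfsg.Agent.Cit.Nil.RTwo.ElevenC

/-!
# S1309 (n3): the centre of a Sylow 2-subgroup of `F*(G)` if `|Om(S)| = 1`

* `U1 T` : the group `T` has at most one central involution; `U1` for groups with a cyclic subgroup of index 2 (not
  commutative), wreathed groups, `TG2`;
* `UZ X` : the Sylow 2-subgroups `T` of `X` have at most one central involution;
* `uz_of_one` : `One Om` (members 2-nilpotent) implies `UZ F*(G)`;
* `uz_of_eqEps` : `EqEps Om` (`r = 2`, `m = 1`) implies `UZ F*(G)`.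
-/

set_option autoImplicit false
set_option linter.style.haveILetI false
set_option linter.unusedSectionVars false

namespace Cfsg.Agent.Cit.Nil.Two

open Subgroup Cfsg Cfsg.Agent.Cit Cfsg.Agent.Cit.Nil.RTwo

universe u

/-- at most one central involution -/
def U1 (T : Type*) [Group T] : Prop := ∀ s t : T, s * s = 1 → s ≠ 1 → t * t = 1 → t ≠ 1 → (∀ x, s * x = x * s) →
  (∀ x, t * x = x * t) → s = t

section u1

variable {T : Type*} [Group T]

/-- a cyclic group has at most one involution -/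
theorem cyc_uniq [Finite T] {x s t : T} (hs : s ∈ zpowers x) (ht : t ∈ zpowers x) (s2 : s * s = 1) (s1 : s ≠ 1)
    (t2 : t * t = 1) (t1 : t ≠ 1) : s = t := by
  obtain ⟨a, rfl⟩ := mem_zpowers_iff.1 hs
  obtain ⟨b, rfl⟩ := mem_zpowers_iff.1 ht
  have key : ∀ a : ℤ, x ^ a * x ^ a = 1 → x ^ a ≠ 1 → ∃ k : ℤ, (orderOf x : ℤ) * (2 * k + 1) = 2 * a := by
    intro a h1 h2
    rw [← zpow_add, ← orderOf_dvd_iff_zpow_eq_one] at h1
    rw [ne_eq, ← orderOf_dvd_iff_zpow_eq_one] at h2
    obtain ⟨c, hc⟩ := h1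
    rcases Int.even_or_odd' c with ⟨k, rfl | rfl⟩
    · exfalso
      apply h2
      exact ⟨k, by linarith⟩
    · exact ⟨k, by linarith⟩
  obtain ⟨k, hk⟩ := key a s2 s1
  obtain ⟨l, hl⟩ := key b t2 t1
  have h1 : x ^ (a - b) = 1 := by
    rw [← orderOf_dvd_iff_zpow_eq_one]
    exact ⟨k - l, by linarith⟩
  rw [zpow_sub, mul_inv_eq_one] at h1
  exact h1

/-- a cyclic subgroup of index 2 -/
theorem u1_of_index [Finite T] {x : T} (hi : (zpowers x).index = 2) {y : T} (hy : y * x ≠ x * y) : U1 T := by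
  have key : ∀ s : T, (∀ x, s * x = x * s) → s ∈ zpowers x := by
    intro s hs
    by_contra hn
    have hy' : y ∉ zpowers x := by
      intro h1
      obtain ⟨k, rfl⟩ := mem_zpowers_iff.1 h1
      exact hy ((Commute.refl x).zpow_left k)
    have h1 : y * s ∈ zpowers x := by
      rw [mul_mem_iff_of_index_two hi]
      exact ⟨fun h => absurd h hy', fun h => absurd h hn⟩
    obtain ⟨k, hk⟩ := mem_zpowers_iff.1 h1
    apply hy
    have h2 : y * s * x = x * (y * s) := by
      rw [← hk]
      exact ((Commute.refl x).zpow_left k)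
    have h3 : y * x * s = x * y * s := by
      calc y * x * s = y * (x * s) := by group
        _ = y * (s * x) := by rw [hs x]
        _ = y * s * x := by group
        _ = x * (y * s) := h2
        _ = _ := by group
    exact mul_right_cancel h3
  intro s t s2 s1 t2 t1 hs ht
  exact cyc_uniq (key s hs) (key t ht) s2 s1 t2 t1

theorem index_of_card [Finite T] {H : Subgroup T} {m : ℕ} (h : Nat.card T = 2 * m) (hH : Nat.card H = m) (hm : 0 < m) :
    H.index = 2 := by
  have h1 := H.card_mul_index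
  rw [h, hH, mul_comm] at h1
  exact Nat.eq_of_mul_eq_mul_right hm h1

theorem u1_quasi [Finite T] (h : Cfsg.IsQuasiDihedral T) : U1 T := by
  obtain ⟨n, hn, hc, x, y, hx, -, hxy⟩ := h
  refine u1_of_index (x := x) (y := y) (index_of_card (m := 2 ^ n) (by rw [hc, pow_succ]; ring)
    (by rw [Nat.card_zpowers, hx]) (by positivity)) ?_
  intro e
  have h1 : y * x * y⁻¹ = x := by rw [e, mul_inv_cancel_right]
  rw [h1] at hxy
  have h2 : x ^ (2 ^ (n - 1) - 2) = 1 := by
    have h3 : 2 ^ (n - 1) - 1 = (2 ^ (n - 1) - 2) + 1 := by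
      have : 4 ≤ 2 ^ (n - 1) := by
        calc 4 = 2 ^ 2 := by norm_num
          _ ≤ 2 ^ (n - 1) := Nat.pow_le_pow_right (by norm_num) (by omega)
      omega
    rw [h3, pow_succ] at hxy
    exact (mul_eq_right.1 hxy.symm)
  have h3 := orderOf_dvd_of_pow_eq_one h2
  rw [hx] at h3
  have h4 : 4 ≤ 2 ^ (n - 1) := by
    calc 4 = 2 ^ 2 := by norm_num
      _ ≤ 2 ^ (n - 1) := Nat.pow_le_pow_right (by norm_num) (by omega)
  have h5 := Nat.le_of_dvd (by omega) h3
  have h6 : 2 ^ n = 2 * 2 ^ (n - 1) := by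
    rw [← pow_succ']
    congr 1
    omega
  omega

theorem u1_wreathed [Finite T] (h : Cfsg.IsWreathed T) : U1 T := by
  obtain ⟨n, hn, hc, x, y, z, hx, hxy, hd, hz, hzx⟩ := h
  have hz2 : z * z = 1 := by rw [← pow_two, ← hz, pow_orderOf_eq_one]
  have hzi : z⁻¹ = z := inv_eq_of_mul_eq_one_right hz2
  have hy : orderOf y = 2 ^ n := by
    rw [← hzx, ← hx]
    exact (MulAut.conj z).orderOf_eq x
  have hx1 : x ≠ 1 := by
    intro e
    rw [e, orderOf_one] at hx
    have : 1 < 2 ^ n := Nat.one_lt_two_pow (by omega)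
    omega
  have hxney : x ≠ y := by
    intro e
    apply hx1
    have : x ∈ zpowers x ⊓ zpowers y := ⟨mem_zpowers x, by rw [← e]; exact mem_zpowers x⟩
    rwa [hd, mem_bot] at this
  have hzy : z * y * z⁻¹ = x := by
    rw [← hzx, hzi]
    calc z * (z * x * z) * z = (z * z) * x * (z * z) := by group
      _ = x := by rw [hz2, one_mul, mul_one]
  -- the subgroup `A = ⟨x, y⟩`
  have hcomm : ∀ i j : ℤ, x ^ i * y ^ j = y ^ j * x ^ i := fun i j => ((show Commute x y from hxy).zpow_zpow i j).eq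
  let A : Subgroup T :=
    { carrier := {g | ∃ i j : ℤ, g = x ^ i * y ^ j}
      one_mem' := ⟨0, 0, by simp⟩
      mul_mem' := by
        rintro _ _ ⟨i, j, rfl⟩ ⟨k, l, rfl⟩
        refine ⟨i + k, j + l, ?_⟩
        rw [zpow_add, zpow_add]
        calc x ^ i * y ^ j * (x ^ k * y ^ l) = x ^ i * (y ^ j * x ^ k) * y ^ l := by group
          _ = x ^ i * (x ^ k * y ^ j) * y ^ l := by rw [hcomm]
          _ = _ := by group
      inv_mem' := by
        rintro _ ⟨i, j, rfl⟩
        refine ⟨-i, -j, ?_⟩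
        rw [mul_inv_rev, ← zpow_neg, ← zpow_neg, hcomm] }
  have hA : ∀ g, g ∈ A ↔ ∃ i j : ℤ, g = x ^ i * y ^ j := fun g => Iff.rfl
  have hAx : zpowers x ≤ A := by
    rw [zpowers_le]; exact ⟨1, 0, by simp⟩
  have hAcard : Nat.card A = 2 ^ (2 * n) := by
    have e : (zpowers x × zpowers y) ≃ A := by
      refine Equiv.ofBijective (fun p => ⟨(p.1 : T) * (p.2 : T), ?_⟩) ⟨?_, ?_⟩
      · obtain ⟨i, hi⟩ := mem_zpowers_iff.1 p.1.2
        obtain ⟨j, hj⟩ := mem_zpowers_iff.1 p.2.2
        exact ⟨i, j, by rw [hi, hj]⟩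
      · rintro ⟨⟨a, ha⟩, ⟨b, hb⟩⟩ ⟨⟨a', ha'⟩, ⟨b', hb'⟩⟩ e
        have e1 : a * b = a' * b' := congrArg Subtype.val e
        have e2 : a'⁻¹ * a = b' * b⁻¹ := by
          rw [inv_mul_eq_iff_eq_mul, ← mul_assoc, ← e1, mul_inv_cancel_right]
        have e3 : a'⁻¹ * a ∈ zpowers x ⊓ zpowers y :=
          mem_inf.2 ⟨(zpowers x).mul_mem ((zpowers x).inv_mem ha') ha, by
            rw [e2]; exact (zpowers y).mul_mem hb' ((zpowers y).inv_mem hb)⟩
        rw [hd, mem_bot] at e3
        have e4 : a = a' := (inv_mul_eq_one.1 e3).symm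
        subst e4
        have e5 : b = b' := mul_left_cancel e1
        subst e5
        rfl
      · rintro ⟨g, i, j, rfl⟩
        exact ⟨⟨⟨x ^ i, zpow_mem (mem_zpowers x) i⟩, ⟨y ^ j, zpow_mem (mem_zpowers y) j⟩⟩, rfl⟩
    rw [← Nat.card_congr e, Nat.card_prod, Nat.card_zpowers, Nat.card_zpowers, hx, hy, ← pow_add, two_mul]
  have hi : A.index = 2 := index_of_card (m := 2 ^ (2 * n)) (by rw [hc, pow_succ]; ring) hAcard (by positivity)
  have hAc : ∀ g ∈ A, g * x = x * g := by
    rintro _ ⟨i, j, rfl⟩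
    have h1 := hcomm 1 j
    rw [zpow_one] at h1
    calc x ^ i * y ^ j * x = x ^ i * (y ^ j * x) := by group
      _ = x ^ i * (x * y ^ j) := by rw [h1]
      _ = x * (x ^ i * y ^ j) := by group
  have hzA : z ∉ A := by
    intro h1
    apply hxney
    rw [← hzx, hAc z h1, mul_inv_cancel_right]
  have key : ∀ s : T, (∀ x, s * x = x * s) → s ∈ zpowers (x * y) := by
    intro s hs
    have hsA : s ∈ A := by
      by_contra hn
      have h1 : z * s ∈ A := by
        rw [mul_mem_iff_of_index_two hi]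
        exact ⟨fun h => absurd h hzA, fun h => absurd h hn⟩
      have h2 := hAc _ h1
      apply hxney
      have h3 : z * x * s = x * z * s := by
        calc z * x * s = z * (x * s) := by group
          _ = z * (s * x) := by rw [hs x]
          _ = z * s * x := by group
          _ = x * (z * s) := h2
          _ = _ := by group
      have h4 := mul_right_cancel h3
      rw [← hzx, h4, mul_inv_cancel_right]
    obtain ⟨i, j, rfl⟩ := hsA
    have h1 : z * (x ^ i * y ^ j) * z⁻¹ = x ^ i * y ^ j := by rw [← hs z, mul_inv_cancel_right]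
    have h2 : z * (x ^ i * y ^ j) * z⁻¹ = (z * x * z⁻¹) ^ i * (z * y * z⁻¹) ^ j := by
      rw [conj_zpow, conj_zpow]; group
    rw [h2, hzx, hzy, ← hcomm] at h1
    have h3 : x ^ (j - i) = y ^ (j - i) := by
      rw [zpow_sub, zpow_sub, mul_inv_eq_iff_eq_mul]
      have h4 : x ^ j = x ^ i * y ^ j * (y ^ i)⁻¹ := by rw [← h1]; group
      rw [h4]
      have h5 := hcomm i (j - i)
      calc x ^ i * y ^ j * (y ^ i)⁻¹ = x ^ i * y ^ (j - i) := by rw [zpow_sub]; group
        _ = y ^ (j - i) * x ^ i := h5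
        _ = _ := by rw [zpow_sub]
    have h4 : x ^ (j - i) = 1 := by
      have : x ^ (j - i) ∈ zpowers x ⊓ zpowers y :=
        ⟨zpow_mem (mem_zpowers x) _, by rw [h3]; exact zpow_mem (mem_zpowers y) _⟩
      rwa [hd, mem_bot] at this
    have h5 : y ^ j = y ^ i := by
      rw [h3, zpow_sub, mul_inv_eq_one] at h4
      exact h4
    rw [h5, ← (show Commute x y from hxy).mul_zpow]
    exact zpow_mem (mem_zpowers _) _
  intro s t s2 s1 t2 t1 hs ht
  exact cyc_uniq (key s hs) (key t ht) s2 s1 t2 t1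

theorem u1_congr {T' : Type*} [Group T'] (e : T ≃* T') (h : U1 T) : U1 T' := by
  intro s t s2 s1 t2 t1 hs ht
  apply e.symm.injective
  refine h _ _ ?_ ?_ ?_ ?_ ?_ ?_
  · rw [← map_mul, s2, map_one]
  · intro h1; exact s1 (e.symm.injective (by rw [h1, map_one]))
  · rw [← map_mul, t2, map_one]
  · intro h1; exact t1 (e.symm.injective (by rw [h1, map_one]))
  · intro x
    apply e.injective
    rw [map_mul, map_mul, e.apply_symm_apply]
    exact hs _
  · intro x
    apply e.injective
    rw [map_mul, map_mul, e.apply_symm_apply]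
    exact ht _

theorem u1_dihedral {m : ℕ} (hm : 3 ≤ m) : U1 (DihedralGroup m) := by
  haveI : NeZero m := ⟨by omega⟩
  refine u1_of_index (x := DihedralGroup.r 1) (y := DihedralGroup.sr 0)
    (index_of_card (m := m) DihedralGroup.nat_card (by rw [Nat.card_zpowers, DihedralGroup.orderOf_r_one]) (by omega)) ?_
  intro e
  rw [DihedralGroup.sr_mul_r, DihedralGroup.r_mul_sr] at e
  have h1 : (0 + 1 : ZMod m) = 0 - 1 := DihedralGroup.sr.inj e
  have h2 : ((2 : ℕ) : ZMod m) = 0 := by
    push_cast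
    linear_combination h1
  rw [ZMod.natCast_eq_zero_iff] at h2
  have := Nat.le_of_dvd (by norm_num) h2
  omega

end u1

section tg2

variable {G : Type*} [Group G]

theorem u1_tg2 {S : Subgroup G} {m : ℕ} {v : ZMod (2 ^ m) → ZMod (2 ^ m) → G} {r s : G}
    (h : SylowG2.Coord.TG2 S m v r s) : U1 ↥S := by
  have hm := h.hm
  have h4 : 4 ≤ 2 ^ m := by
    calc 4 = 2 ^ 2 := by norm_num
      _ ≤ 2 ^ m := Nat.pow_le_pow_right (by norm_num) hm
  have inj : ∀ i j k l, v i j = v k l → i = k ∧ j = l := by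
    intro i j k l e
    have h1 : v i j * v (-k) (-l) = 1 := by
      rw [e, h.v_mul, add_neg_cancel, add_neg_cancel, h.v_zero]
    rw [h.v_mul] at h1
    obtain ⟨h2, h3⟩ := h.v_inj _ _ h1
    exact ⟨by linear_combination h2, by linear_combination h3⟩
  have n1 : (1 : ZMod (2 ^ m)) ≠ 0 := by
    intro e
    have h1 : ((1 : ℕ) : ZMod (2 ^ m)) = 0 := by exact_mod_cast e
    rw [ZMod.natCast_eq_zero_iff] at h1
    have := Nat.le_of_dvd (by norm_num) h1
    omega
  have n2 : (2 : ZMod (2 ^ m)) ≠ 0 := by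
    intro e
    have h1 : ((2 : ℕ) : ZMod (2 ^ m)) = 0 := by exact_mod_cast e
    rw [ZMod.natCast_eq_zero_iff] at h1
    have := Nat.le_of_dvd (by norm_num) h1
    omega
  -- central elements of order 2
  have key : ∀ g : G, g ∈ S → g ≠ 1 → g * g = 1 → (∀ x ∈ S, g * x = x * g) → ∃ i : ZMod (2 ^ m), i ≠ 0 ∧ i + i = 0 ∧
      g = v i i := by
    intro g hg g1 g2 hc
    have hv := hc _ (h.v_mem 1 0)
    obtain ⟨i, j, h1⟩ := h.cases g hg
    rcases h1 with rfl | rfl | rfl | rfl
    · have e1 := hc r h.r_mem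
      rw [h.r_v] at e1
      obtain ⟨e2, -⟩ := inj _ _ _ _ (mul_right_cancel e1)
      subst e2
      have e3 := g2
      rw [h.v_mul] at e3
      obtain ⟨e4, -⟩ := h.v_inj _ _ e3
      refine ⟨i, ?_, e4, rfl⟩
      rintro rfl
      exact g1 h.v_zero
    · exfalso
      rw [mul_assoc, h.r_v, ← mul_assoc, ← mul_assoc, h.v_mul, h.v_mul] at hv
      obtain ⟨e1, -⟩ := inj _ _ _ _ (mul_right_cancel hv)
      exact n1 (by linear_combination -e1)
    · exfalso
      rw [mul_assoc, h.s_v, ← mul_assoc, ← mul_assoc, h.v_mul, h.v_mul] at hv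
      obtain ⟨e1, -⟩ := inj _ _ _ _ (mul_right_cancel hv)
      exact n2 (by linear_combination -e1)
    · exfalso
      have e0 : v i j * (r * s) * v 1 0 = v i j * v (-0) (-1) * (r * s) := by
        calc v i j * (r * s) * v 1 0 = v i j * r * (s * v 1 0) := by group
          _ = v i j * r * (v (-1) (-0) * s) := by rw [h.s_v]
          _ = v i j * (r * v (-1) (-0)) * s := by group
          _ = v i j * (v (-0) (-1) * r) * s := by rw [h.r_v]
          _ = _ := by group
      rw [e0, ← mul_assoc (v 1 0), h.v_mul, h.v_mul] at hv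
      obtain ⟨e1, -⟩ := inj _ _ _ _ (mul_right_cancel hv)
      exact n1 (by linear_combination -e1)
  have uniq : ∀ i j : ZMod (2 ^ m), i ≠ 0 → i + i = 0 → j ≠ 0 → j + j = 0 → i = j := by
    have hne : NeZero (2 ^ m) := ⟨by positivity⟩
    have key2 : ∀ i : ZMod (2 ^ m), i ≠ 0 → i + i = 0 → i.val = 2 ^ (m - 1) := by
      intro i hi hii
      have h1 : ((i.val + i.val : ℕ) : ZMod (2 ^ m)) = 0 := by
        push_cast
        rw [ZMod.natCast_zmod_val]
        exact hii
      rw [ZMod.natCast_eq_zero_iff] at h1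
      have h2 : i.val ≠ 0 := by
        intro e; exact hi ((ZMod.val_eq_zero i).1 e)
      have h3 := ZMod.val_lt i
      obtain ⟨c, hc⟩ := h1
      have h4 : 2 ^ m = 2 * 2 ^ (m - 1) := by
        rw [← pow_succ']; congr 1; omega
      have hc1 : c = 1 := by
        have h5 : 0 < c := by
          rcases Nat.eq_zero_or_pos c with h6 | h6
          · rw [h6, mul_zero] at hc; omega
          · exact h6
        have h7 : c < 2 := by
          by_contra hcc
          push Not at hcc
          have := Nat.mul_le_mul_left (2 ^ m) hcc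
          omega
        omega
      rw [hc1, mul_one] at hc
      omega
    intro i j hi hii hj hjj
    apply ZMod.val_injective
    rw [key2 i hi hii, key2 j hj hjj]
  intro a b a2 a1 b2 b1 ha hb
  obtain ⟨i, hi, hii, hiv⟩ := key a a.2 (fun e => a1 (Subtype.ext e)) (congrArg Subtype.val a2) fun x hx =>
    congrArg Subtype.val (ha ⟨x, hx⟩)
  obtain ⟨j, hj, hjj, hjv⟩ := key b b.2 (fun e => b1 (Subtype.ext e)) (congrArg Subtype.val b2) fun x hx =>
    congrArg Subtype.val (hb ⟨x, hx⟩)
  apply Subtype.ext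
  rw [hiv, hjv, uniq i j hi hii hj hjj]

end tg2

section uz

variable {G : Type u} [Group G] [Finite G] {Om : Set (Subgroup G)} {K N X T : Subgroup G}

/-- the Sylow 2-subgroups of `X` have at most one central involution -/
def UZ (X : Subgroup G) : Prop := ∀ T, Syl T X → U1 ↥T

theorem uz_of_syl (hT : Syl T X) (h : U1 ↥T) : UZ X := by
  intro T' hT'
  obtain ⟨k, -, rfl⟩ := hT.exists_conj hT'
  exact u1_congr (T.equivMapOfInjective _ (MulAut.conj k).injective) h

/-- `|Om(S)| = 1` -/
theorem uz_of_one (hs : IsSimpleGroup ↥(generalizedFittingSubgroup G))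
    (hna : ¬ IsMulCommutative ↥(generalizedFittingSubgroup G))
    (h2 : 2 ∣ Nat.card ↥(generalizedFittingSubgroup G))
    (h1173 : OneF.H1173 G) (h1171 : OneF.H1171 G) (h0506 : NoHomo.S0506Stmt.{u})
    (h : One Om) (hne : Om.Nonempty) (hn : NilOm Om) : UZ (generalizedFittingSubgroup G) := by
  have hX : (generalizedFittingSubgroup G).Normal := Lib.GenFitting.genFitting_normal (G := G)
  have hC := End.centralizer_fstar hs hna
  have hN : ∀ N : Subgroup G, N.Normal → N ≠ ⊥ → centralizer (N : Set G) = ⊥ := by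
    intro N hN hb
    rw [eq_bot_iff, ← hC]
    exact centralizer_le (End.fstar_le hs hna hN hb)
  have hO : oddCore G = ⊥ := by
    by_contra hb
    have h3 := End.fstar_le hs hna (Lib.Cores.pPrimeCore_normal 2 (G := G)) hb
    have h4 := h2.trans (card_dvd_of_le h3)
    have h5 := Lib.Cores.pPrimeCore_coprime (G := G) 2
    have h6 := Nat.dvd_gcd h4 (dvd_refl 2)
    rw [h5] at h6
    omega
  have hF : Ker.FOne Om := fun b hb hw => OneF.eq_one_of_WW_nil h (l1_nil h hn) h1173 h1171 hO hN hb hw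
  have hZX : ∀ K ∈ Om, zz K ∈ generalizedFittingSubgroup G := fun K hK => ZMem.zz_mem_simple h hX hs h2 hC hK
  have hP : Ker.HPair Om := ZMem.hPair h hX (ZMem.hodd_simple hs h2) hC hne
  have hperf : ⁅generalizedFittingSubgroup G, generalizedFittingSubgroup G⁆ = generalizedFittingSubgroup G := by
    rw [← map_subtype_commutator, End.commutator_eq_top hs hna, ← MonoidHom.range_eq_map, range_subtype]
  by_cases hW : Ker.HW Om
  · obtain ⟨T, hT, hout⟩ := WWorld.main h hF hW hX hperf hZX
    rcases hout with h1 | ⟨m, v, r, s, h1⟩ | h1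
    · exact uz_of_syl hT (u1_wreathed h1)
    · exact uz_of_syl hT (u1_tg2 h1)
    · exact absurd h1 (NoHomo.not_homo h0506 hs hna hT)
  · rcases SdEnd.main h hF hP hW hX hZX (End.index_ne_two hs hna) with ⟨T, hT, h1⟩ | ⟨T, n, c, t, v, hD⟩
    · exact uz_of_syl hT (u1_quasi h1)
    · obtain ⟨f⟩ := hD.equiv
      refine uz_of_syl hD.syl (u1_congr f.symm (u1_dihedral ?_))
      calc 3 ≤ 2 ^ 2 := by norm_num
        _ ≤ 2 ^ (n + 2) := Nat.pow_le_pow_right (by norm_num) (by omega)

theorem uz_of_subgroupOf (hXN : X ≤ N) (h : UZ (X.subgroupOf N)) : UZ X := by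
  intro T hT
  have h1 : Syl (T.subgroupOf N) (X.subgroupOf N) := by
    have e1 : (T.subgroupOf N).map N.subtype = T := map_subgroupOf_eq_of_le (hT.1.trans hXN)
    have e2 : (X.subgroupOf N).map N.subtype = X := map_subgroupOf_eq_of_le hXN
    have h2 : Syl ((T.subgroupOf N).map N.subtype) ((X.subgroupOf N).map N.subtype) := by rw [e1, e2]; exact hT
    refine ⟨comap_mono hT.1, (h2.2.1).of_equiv ((T.subgroupOf N).equivMapOfInjective _ N.subtype_injective).symm, ?_⟩
    intro h3
    apply h2.2.2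
    rwa [relIndex_map_map_of_injective _ _ N.subtype_injective]
  exact u1_congr (subgroupOfEquivOfLe (hT.1.trans hXN)) (h _ h1)

/-- `r = 2`, `m = 1`, `EqEps` -/
theorem uz_of_eqEps (hs : IsSimpleGroup ↥(generalizedFittingSubgroup G))
    (hna : ¬ IsMulCommutative ↥(generalizedFittingSubgroup G))
    (h2 : 2 ∣ Nat.card ↥(generalizedFittingSubgroup G))
    (h1173 : ∀ (G : Type u) [Group G] [Finite G], oddCore G = ⊥ → OneF.H1173 G)
    (h1171 : ∀ (G : Type u) [Group G] [Finite G], OneF.H1171 G) (h0506 : NoHomo.S0506Stmt.{u})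
    (h : W2 Om) (hne : Om.Nonempty) (he : EqEps Om) : UZ (generalizedFittingSubgroup G) := by
  obtain ⟨N, hN, hle, hfix⟩ := exists_ker h hne he
  obtain ⟨K, hK⟩ := hne
  have hNb : N ≠ ⊥ := by
    rintro rfl
    have h1 := card_dvd_of_le (hle K hK)
    rw [h.card K hK, card_bot] at h1
    omega
  have hXN := End.fstar_le hs hna hN hNb
  have hF := fstar_subgroupOf hs hna hXN
  have e : ↥(generalizedFittingSubgroup ↥N) ≃* ↥(generalizedFittingSubgroup G) :=
    (MulEquiv.subgroupCongr hF).trans (subgroupOfEquivOfLe hXN)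
  have hs' : IsSimpleGroup ↥(generalizedFittingSubgroup ↥N) := by
    haveI : Nontrivial ↥(generalizedFittingSubgroup ↥N) := e.toEquiv.nontrivial
    exact IsSimpleGroup.isSimpleGroup_of_surjective e.symm.toMonoidHom e.symm.surjective
  have hna' : ¬ IsMulCommutative ↥(generalizedFittingSubgroup ↥N) := by
    intro hc
    apply hna
    refine ⟨⟨fun a b => e.symm.injective ?_⟩⟩
    rw [map_mul, map_mul]
    exact hc.is_comm.comm _ _
  have h2' : 2 ∣ Nat.card ↥(generalizedFittingSubgroup ↥N) := by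
    rw [Nat.card_congr e.toEquiv]; exact h2
  have hO : oddCore ↥N = ⊥ := by
    by_contra hb
    have h3 := End.fstar_le hs' hna' (Lib.Cores.pPrimeCore_normal 2 (G := ↥N)) hb
    have h4 := h2'.trans (card_dvd_of_le h3)
    have h5 := Lib.Cores.pPrimeCore_coprime (G := ↥N) 2
    have h6 := Nat.dvd_gcd h4 (dvd_refl 2)
    rw [h5] at h6
    omega
  have hone := one_of_ker h hle hfix hK
  have hnil : NilOm (cls (K.subgroupOf N)) := by
    rintro A hA Q hQ
    have h1 : IsPGroup 2 A := by
      have h3 : A.map N.subtype ∈ Om := (h.hyp.restr N).cls_subset (subgroupOf_mem_restr hK (hle K hK)) hA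
      exact (h.isPGroup h3).of_equiv (A.equivMapOfInjective _ N.subtype_injective).symm
    have h4 := hQ.eq_of_le hQ.1 le_rfl h1
    rw [h4]
    exact le_sup_right
  have h6 := uz_of_one hs' hna' h2' (h1173 _ hO) (h1171 _) h0506 hone ⟨_, self_mem_cls _⟩ hnil
  rw [hF] at h6
  exact uz_of_subgroupOf hXN h6

end uz

end Cfsg.Agent.Cit.Nil.Two
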