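import Cfsg.Agent.Cit.Nil.Two.SWSW
import Cfsg.Agent.Cit.Nil.Two.Uniq
import Cfsg.Agent.Cit.Nil.RTwo.Three
import Cfsg.Agent.Cit.Nil.RFour.Leaf
import Cfsg.Agent.Cit.Nil.RG.EndS
import Cfsg.Agent.Cit.Nil.RG.Leaf

/-!
# S1309 (n3), two classes: the outcome for one class with `m = 1`

* `CW G K` : the world of one class `cls K`: `|K| = 8`, commuting members of the class have the same involution, cores
  trivial, `One (cls K)` or (C3), no member with `Three`;
* `CW.out` : `UZ F*(G)` or `SW (cls K)` or `C(R_z) = ⟨z⟩`;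
* `CW.false_of_pair` : two classes with commuting members over different involutions are impossible.
-/

set_option autoImplicit false
set_option linter.style.haveILetI false
set_option linter.unusedSectionVars false

namespace Cfsg.Agent.Cit.Nil.Two

open Subgroup Cfsg Cfsg.Agent.Cit Cfsg.Agent.Cit.Nil.RTwo

universe u

/-- the world of one class -/
structure CW (G : Type u) [Group G] [Finite G] (K : Subgroup G) : Prop where
  hyp : Hyp (cls K)
  card : Nat.card K = 8
  mone : RTwo.MOne (cls K)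
  simple : IsSimpleGroup ↥(generalizedFittingSubgroup G)
  na : ¬ IsMulCommutative ↥(generalizedFittingSubgroup G)
  even : 2 ∣ Nat.card ↥(generalizedFittingSubgroup G)
  free : CFA G
  c3 : One (cls K) ∨ Nil.C3 K
  three : ∀ L ∈ cls K, ¬ IndDefs.Three L

/-- the external inputs -/
structure TIn : Prop where
  /-- S1169, Bender, S1175, S1173 -/
  lin : RTwo.LIn.{u}
  /-- `Cit.OneF.h1171` -/
  h1171 : ∀ (G : Type u) [Group G] [Finite G], OneF.H1171 G
  /-- S0506 -/
  p0506 : NoHomo.S0506Stmt.{u}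

namespace CW

variable {G : Type u} [Group G] [Finite G] {K L M K1 K2 : Subgroup G} {z g s n : G}

theorem card_all (w : CW G K) (hL : L ∈ cls K) : Nat.card L = 8 := by
  obtain ⟨g, rfl⟩ := hL
  rw [card_cj, w.card]

theorem isPGroup (w : CW G K) (hL : L ∈ cls K) : IsPGroup 2 L :=
  IsPGroup.of_card (n := 3) (by rw [w.card_all hL]; norm_num)

theorem ncard (w : CW G K) (hL : L ∈ cls K) : {M | M ∈ cls K ∧ zz M = zz L}.ncard = (AssemblyNil.ovr K).ncard := by
  obtain ⟨g, rfl⟩ := hL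
  have h2 : {M | M ∈ cls K ∧ zz M = zz (cj g K)} = (cj g) '' (AssemblyNil.ovr K) := by
    ext M
    constructor
    · rintro ⟨hM, hz⟩
      refine ⟨cj g⁻¹ M, ⟨w.hyp.conj M hM _, ?_⟩, cj_cj_inv g M⟩
      rw [w.hyp.zz_cj hM, hz, w.hyp.zz_cj (self_mem_cls K)]
      group
    · rintro ⟨M, ⟨hM, hz⟩, rfl⟩
      refine ⟨w.hyp.conj M hM g, ?_⟩
      rw [w.hyp.zz_cj hM, hz, w.hyp.zz_cj (self_mem_cls K)]
  rw [h2, Set.ncard_image_of_injective _ (fun A B hAB => cj_inj.1 hAB)]

theorem w2 (w : CW G K) (h : (AssemblyNil.ovr K).ncard = 2) : W2 (cls K) := by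
  refine ⟨w.hyp, fun L hL => w.card_all hL, ?_, w.mone⟩
  intro L hL
  have h3 := w.ncard hL
  rw [h] at h3
  obtain ⟨A, B, hAB, h5⟩ := Set.ncard_eq_two.1 h3
  have hA : A ∈ {M | M ∈ cls K ∧ zz M = zz L} := by rw [h5]; exact Set.mem_insert _ _
  have hB : B ∈ {M | M ∈ cls K ∧ zz M = zz L} := by
    rw [h5]; exact Set.mem_insert_of_mem _ (Set.mem_singleton _)
  have hg : L ∈ {M | M ∈ cls K ∧ zz M = zz L} := ⟨hL, rfl⟩
  have hall : ∀ M ∈ cls K, zz M = zz L → M = A ∨ M = B := by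
    intro M hM hz
    have h6 : M ∈ {M | M ∈ cls K ∧ zz M = zz L} := ⟨hM, hz⟩
    rw [h5] at h6
    simpa using h6
  rw [h5] at hg
  rcases hg with hg | hg
  · subst hg
    exact ⟨B, hB.1, hAB.symm, hB.2, hall⟩
  · rw [Set.mem_singleton_iff] at hg
    subst hg
    exact ⟨A, hA.1, hAB, hA.2, fun M hM hz => (hall M hM hz).symm⟩

theorem le_of_mem_OmS (w : CW G K) {S : Subgroup G} (hS : IsPGroup 2 S) (hL : L ∈ OmS (cls K) S) : L ≤ S := by
  have h1 : L ⊓ S = L := (syl_inf hS hL).eq_of_le inf_le_left le_rfl (w.isPGroup hL.1)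
  rw [← h1]; exact inf_le_right

theorem one (w : CW G K) (h : (AssemblyNil.ovr K).ncard = 1) : One (cls K) := by
  refine ⟨w.hyp, fun S hS A hA B hB => ?_⟩
  by_contra hne
  have hz : zz A = zz B := by
    refine w.mone A hA.1 B hB.1 fun a ha b hb => ?_
    exact w.hyp.comm hS hA hB hne ⟨ha, w.le_of_mem_OmS hS hA ha⟩ ⟨hb, w.le_of_mem_OmS hS hB hb⟩
  have h1 := w.ncard hA.1
  rw [h] at h1
  obtain ⟨C, hC⟩ := Set.ncard_eq_one.1 h1
  have h2 : A ∈ {M | M ∈ cls K ∧ zz M = zz A} := ⟨hA.1, rfl⟩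
  have h3 : B ∈ {M | M ∈ cls K ∧ zz M = zz A} := ⟨hB.1, hz.symm⟩
  rw [hC, Set.mem_singleton_iff] at h2 h3
  exact hne (h2.trans h3.symm)

theorem nil (w : CW G K) : NilOm (cls K) := by
  intro A hA Q hQ
  rw [hQ.eq_of_le hQ.1 le_rfl (w.isPGroup hA)]
  exact le_sup_right

/-- **the outcome for one class** -/
theorem out (i : TIn.{u}) (w : CW G K) : UZ (generalizedFittingSubgroup G) ∨ SW (cls K) ∨
    (∀ n : G, (∀ L ∈ cls K, zz L = zz K → ∀ l ∈ L, n * l = l * n) → n = 1 ∨ n = zz K) := by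
  have f := ROne.fsimp_of w.simple w.na
  haveI := f.sim
  have hne : (cls K).Nonempty := ⟨K, self_mem_cls K⟩
  have hO := RTwo.oddCore_eq_bot f w.even
  have h1173 : OneF.H1173 G := i.lin.h1173 G hO
  have gold : Cit.ROne.Gold ↥(generalizedFittingSubgroup G) := fun S A h1 h2 h3 => i.lin.gold _ S A h1 h2 h3
  have hB : CloEnd.Bend ↥(generalizedFittingSubgroup G) := i.lin.bend _
  have hone : One (cls K) → UZ (generalizedFittingSubgroup G) := fun h =>
    uz_of_one w.simple w.na w.even h1173 (i.h1171 G) i.p0506 h hne w.nil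
  rcases w.c3 with h1 | h3
  · exact Or.inl (hone h1)
  by_cases e1 : (AssemblyNil.ovr K).ncard = 1
  · exact Or.inl (hone (w.one e1))
  by_cases e2 : (AssemblyNil.ovr K).ncard = 2
  · have h := w.w2 e2
    rcases main_three i.lin h (RTwo.oneCls_cls K) (rot_cls h h3) w.free hne f w.even with h4 | h4 | ⟨h4, h5⟩
    · obtain ⟨L, hL, hT⟩ := h4
      exact absurd hT (w.three L hL)
    · exact Or.inl (uz_of_eqEps w.simple w.na w.even (fun G _ _ => i.lin.h1173 G) (fun G _ _ => i.h1171 G) i.p0506 h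
        hne h4)
    · exact Or.inr (Or.inl (h4.toSW h5))
  by_cases e4 : (AssemblyNil.ovr K).ncard = 4
  · right; right
    have h : RFour.W4 (cls K) := ⟨w.hyp, fun L hL => w.card_all hL, fun L hL => by rw [w.ncard hL, e4], w.mone⟩
    have hc := RFour.oneCls_cls K
    have c3r := RFour.C3R.of_c3 h hc (self_mem_cls K) h3
    have cf : RFour.CF (cls K) := fun z hz => w.free z (hz.z2 h) (hz.z1 h)
    have e := RFour.exc h
    have hle : ∀ L ∈ cls K, L ≤ generalizedFittingSubgroup G := fun L hL => h.mem_le hc c3r f w.even e hL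
    have hz : RFour.InZ (cls K) (zz K) := ⟨K, self_mem_cls K, rfl⟩
    have hN := h.N0_eq_bot e f hle gold hB h1173 cf hz
    intro n hn
    refine h.CX_eq_one hz hN ?_
    rw [RFour.CX, mem_centralizer_iff]
    rintro k ⟨L, hL, hk⟩
    exact (hn L hL.1 hL.2 k hk).symm
  · exfalso
    have h : RG.WR (cls K) := RG.WR.of_hyp w.hyp fun L hL => w.card_all hL
    have hnc : ∀ z ∈ RG.ZZ (cls K), (RG.Ov (cls K) z).ncard = (AssemblyNil.ovr K).ncard := by
      rintro _ ⟨L, hL, rfl⟩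
      exact w.ncard hL
    have e0 : (AssemblyNil.ovr K).ncard ≠ 0 := by
      rw [Ne, Set.ncard_eq_zero]
      exact Set.Nonempty.ne_empty ⟨K, self_mem_cls K, rfl⟩
    have r3 : RG.R3 (cls K) := fun z hz => by rw [hnc z hz]; omega
    have hT : RG.NoTI (cls K) := RG.NoTI.of_ne h r3 fun z hz => by rw [hnc z hz]; exact e4
    have hC : RG.AllC (cls K) := fun s hs x hx hne hc => h.cp_of_comm hT r3 hs hx hne hc
    exact h.false_of_allC hC r3.r2 w.hyp (z := zz K) ⟨K, self_mem_cls K, rfl⟩ f w.even gold hB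

theorem mem_OmS (w : CW G K) {S : Subgroup G} (hKS : K ≤ S) : K ∈ OmS (cls K) S :=
  mem_OmS_of_le (self_mem_cls K) (syl_self (w.isPGroup (self_mem_cls K))) hKS

/-- `z_K` is central in a Sylow 2-subgroup over `K` -/
theorem central (w : CW G K) (S : Sylow 2 G) (hKS : K ≤ S) (hs : s ∈ (S : Subgroup G)) : s * zz K = zz K * s := by
  have hK := w.mem_OmS hKS
  have hsK : cj s K ∈ OmS (cls K) (S : Subgroup G) := cj_mem_OmS' w.hyp.conj (le_normalizer hs) hK
  have h2 : zz (cj s K) = zz K := by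
    by_cases h3 : cj s K = K
    · rw [h3]
    · refine w.mone _ hsK.1 _ hK.1 fun k hk l hl => ?_
      exact w.hyp.comm S.isPGroup' hsK hK h3 ⟨hk, w.le_of_mem_OmS S.isPGroup' hsK hk⟩ ⟨hl, hKS hl⟩
  rw [w.hyp.zz_cj hK.1] at h2
  rw [← mul_inv_eq_iff_eq_mul]; exact h2

/-- **two classes** -/
theorem false_of_pair (i : TIn.{u}) (w1 : CW G K1) (w2 : CW G K2) (hc : ∀ k ∈ K1, ∀ l ∈ K2, k * l = l * k)
    (hne : zz K1 ≠ zz K2) : False := by
  haveI : Fact (Nat.Prime 2) := ⟨Nat.prime_two⟩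
  have f := ROne.fsimp_of w1.simple w1.na
  haveI := f.nor
  have hn : K1 ≤ normalizer (K2 : Set G) := by
    intro k hk
    rw [mem_normalizer_iff]
    intro x
    have key : ∀ k ∈ K1, ∀ x ∈ K2, k * x * k⁻¹ = x := fun k hk x hx => by
      rw [hc k hk x hx, mul_inv_cancel_right]
    constructor
    · intro hx
      rw [key k hk x hx]; exact hx
    · intro hx
      have h1 := key k⁻¹ (inv_mem hk) _ hx
      have h2 : k⁻¹ * (k * x * k⁻¹) * k⁻¹⁻¹ = x := by group
      rw [h2] at h1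
      rw [h1]; exact hx
  obtain ⟨S, hS⟩ := (OneBasic.isPGroup_sup_of_normalizes (w1.isPGroup (self_mem_cls K1)) (w2.isPGroup (self_mem_cls K2))
    hn).exists_le_sylow
  have hS1 : K1 ≤ S := le_sup_left.trans hS
  have hS2 : K2 ≤ S := le_sup_right.trans hS
  have c1 : ∀ s ∈ (S : Subgroup G), s * zz K1 = zz K1 * s := fun s hs => w1.central S hS1 hs
  have c2 : ∀ s ∈ (S : Subgroup G), s * zz K2 = zz K2 * s := fun s hs => w2.central S hS2 hs
  have m1 : zz K1 ∈ (S : Subgroup G) := hS1 (w1.hyp.zz_mem (self_mem_cls K1))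
  have m2 : zz K2 ∈ (S : Subgroup G) := hS2 (w2.hyp.zz_mem (self_mem_cls K2))
  have x1 : zz K1 ∈ generalizedFittingSubgroup G :=
    RG.zz_mem_of_fsimp w1.hyp (fun K hK => w1.isPGroup hK) f w1.even ⟨K1, self_mem_cls K1, rfl⟩
  have x2 : zz K2 ∈ generalizedFittingSubgroup G :=
    RG.zz_mem_of_fsimp w2.hyp (fun K hK => w2.isPGroup hK) f w2.even ⟨K2, self_mem_cls K2, rfl⟩
  have s1 := w1.hyp.zz_mul (self_mem_cls K1)
  have s2 := w2.hyp.zz_mul (self_mem_cls K2)
  have n1 := w1.hyp.zz_ne (self_mem_cls K1)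
  have n2 := w2.hyp.zz_ne (self_mem_cls K2)
  -- the centre of `S ∩ X`
  have hU : ¬ UZ (generalizedFittingSubgroup G) := by
    intro hU
    have hT : Syl ((S : Subgroup G) ⊓ generalizedFittingSubgroup G) (generalizedFittingSubgroup G) :=
      AbSyl.syl_inf_normal ⟨le_top, S.isPGroup', by
        rw [relIndex_top_right]
        exact S.not_dvd_index⟩
    have h1 := hU _ hT ⟨zz K1, m1, x1⟩ ⟨zz K2, m2, x2⟩ (Subtype.ext s1) (fun e => n1 (congrArg Subtype.val e))
      (Subtype.ext s2) (fun e => n2 (congrArg Subtype.val e)) (fun x => Subtype.ext (c1 x x.2.1).symm)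
      (fun x => Subtype.ext (c2 x x.2.1).symm)
    exact hne (congrArg Subtype.val h1)
  -- the members over `zz K1`
  have k1 : ∀ L ∈ cls K1, zz L = zz K1 → ∀ l ∈ L, zz K2 * l = l * zz K2 := fun L hL hz l hl =>
    (c2 l (w1.le_of_mem_OmS S.isPGroup' (w1.hyp.mem_OmS_of_zz_eq S (w1.mem_OmS hS1) hL hz) hl)).symm
  have k2 : ∀ L ∈ cls K2, zz L = zz K2 → ∀ l ∈ L, zz K1 * l = l * zz K1 := fun L hL hz l hl =>
    (c1 l (w2.le_of_mem_OmS S.isPGroup' (w2.hyp.mem_OmS_of_zz_eq S (w2.mem_OmS hS2) hL hz) hl)).symm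
  rcases w1.out i with h1 | h1 | h1
  · exact hU h1
  · rcases w2.out i with h2 | h2 | h2
    · exact hU h2
    · refine false_of_two h1 h2 (fun z t hz ht => (RTwo.oneCls_cls K1).conj h1.w hz ht)
        (fun z t hz ht => (RTwo.oneCls_cls K2).conj h2.w hz ht) ⟨K1, self_mem_cls K1, rfl⟩ ⟨K2, self_mem_cls K2, rfl⟩
        ?_ ?_ hne.symm
      · rw [mem_CX]
        exact fun L hL l hl => k1 L hL.1 hL.2 l hl
      · rw [mem_CX]
        exact fun L hL l hl => k2 L hL.1 hL.2 l hl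
    · rcases h2 _ k2 with h3 | h3
      · exact n1 h3
      · exact hne h3
  · rcases h1 _ k1 with h3 | h3
    · exact n2 h3
    · exact hne h3.symm

end CW

/-- **(n3)**: every class has `m = 1` -/
theorem two_false (i : TIn.{u}) {G : Type u} [Group G] [Finite G] {Om : Set (Subgroup G)} (S : IndDefs.SCW G Om)
    (free : ∀ t : G, orderOf t = 2 → centralizerPPrimeCore 2 t = ⊥) (hcv : ∀ K ∈ Om, ¬ Nil.C3 K → One (cls K))
    (hm : ∀ K ∈ Om, RTwo.MOne (cls K)) : False := by
  haveI : Fact (Nat.Prime 2) := ⟨Nat.prime_two⟩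
  obtain ⟨K1, h1, K2, h2, hc, hne⟩ := S.two
  have hyp := S.t0.hyp
  have hF : CFA G := by
    intro j hj hj1
    exact free j (orderOf_eq_prime (by rw [pow_two]; exact hj) hj1)
  have hev : 2 ∣ Nat.card ↥(generalizedFittingSubgroup G) := by
    by_contra hodd
    have h3 : generalizedFittingSubgroup G ≤ pPrimeCore 2 G := by
      have hn : (generalizedFittingSubgroup G).Normal := Lib.GenFitting.genFitting_normal (G := G)
      refine Lib.Cores.le_pPrimeCore hn ?_
      exact (Nat.Prime.coprime_iff_not_dvd Nat.prime_two).2 hodd |>.symm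
    rw [S.t0.core, le_bot_iff] at h3
    have h4 := S.simple.toNontrivial
    rw [h3] at h4
    exact not_nontrivial _ h4
  have key : ∀ K ∈ Om, CW G K := fun K hK =>
    { hyp := hyp.of_cls hK
      card := S.t0.card K hK
      mone := hm K hK
      simple := S.simple
      na := S.na
      even := hev
      free := hF
      c3 := by
        by_cases h3 : Nil.C3 K
        · exact Or.inr h3
        · exact Or.inl (hcv K hK h3)
      three := fun L hL => S.three L (hyp.cls_subset hK hL) }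
  exact (key K1 h1).false_of_pair i (key K2 h2) hc hne

end Cfsg.Agent.Cit.Nil.Two
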