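import Cfsg.Agent.Cit.Nil.RTwo.SPPTwo
import Cfsg.Agent.Cit.Nil.RTwo.SDich

/-!
# S1309 (n3), two classes: the case `r_a = r_b = 2`

`A`, `B` : two families with `SW` (the world (S) of `r = 2`, `m = 1`). Let `z` be an involution of `A`, `u` an involution
of `B`, `u ∈ X_z(A)`, `z ∈ X_u(B)`, `u ≠ z`. Then `u` or `z u` is a label `c` of `z`.

* `u = c` : `C(c)` is transitive on the 15 elements of `Z_c(A) ∩ C(z)` and they all lie in `X_u(B)`, a group of order 8;
* `u = z c` : `t ↦ t c` maps the eight p-neighbours of `z` over `c` into the six lines over `c` of `u`.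

`SW.false_of_two` : contradiction.
-/

set_option autoImplicit false
set_option linter.style.haveILetI false
set_option linter.unusedSectionVars false

namespace Cfsg.Agent.Cit.Nil.Two

open Subgroup Cfsg Cfsg.Agent.Cit Cfsg.Agent.Cit.Nil.RTwo

variable {G : Type*} [Group G] [Finite G] {A B Om : Set (Subgroup G)} {z t u c x : G}

/-- `Z` is one class -/
def OneZ (Om : Set (Subgroup G)) : Prop := ∀ z t, InZ Om z → InZ Om t → ∃ g, g * z * g⁻¹ = t

theorem exists_move (S : SW Om) (hcls : OneZ Om) (hc : c ∈ CC Om z) (hc' : c ∈ CC Om t) :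
    ∃ g, g * c = c * g ∧ g * z * g⁻¹ = t := by
  obtain ⟨k, rfl⟩ := hcls z t (CC.inZ hc) (CC.inZ hc')
  obtain ⟨m, hm, hm'⟩ := S.tr _ _ _ (CC.conj S.w hc k) hc'
  refine ⟨m * k, ?_, ?_⟩
  · rw [← mul_inv_eq_iff_eq_mul]
    calc m * k * c * (m * k)⁻¹ = m * (k * c * k⁻¹) * m⁻¹ := by group
      _ = c := hm'
  · calc m * k * z * (m * k)⁻¹ = m * (k * z * k⁻¹) * m⁻¹ := by group
      _ = _ := by rw [hm, mul_inv_cancel_right]

theorem cx_ncard_le (S : SW Om) (hz : InZ Om z) : {x | x ∈ CX Om z}.ncard ≤ 8 := by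
  obtain ⟨c0, c1, c2, hC, -, -, -, -⟩ := S.three z hz
  have h1 : {x | x ∈ CX Om z} ⊆ Set.range ![1, z, c0, c1, c2, z * c0, z * c1, z * c2] := by
    intro x hx
    have key : ∀ d ∈ CC Om z, d = c0 ∨ d = c1 ∨ d = c2 := by
      intro d hd
      rw [hC] at hd
      simpa using hd
    rcases S.cx z hz x hx with rfl | rfl | h2 | h2
    · exact ⟨0, rfl⟩
    · exact ⟨1, rfl⟩
    · rcases key _ h2 with rfl | rfl | rfl
      · exact ⟨2, rfl⟩
      · exact ⟨3, rfl⟩
      · exact ⟨4, rfl⟩
    · have h3 : x = z * (z * x) := by rw [← mul_assoc, hz.z2 S.w, one_mul]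
      rcases key _ h2 with h4 | h4 | h4
      · exact ⟨5, by rw [h3, h4]; rfl⟩
      · exact ⟨6, by rw [h3, h4]; rfl⟩
      · exact ⟨7, by rw [h3, h4]; rfl⟩
  refine (Set.ncard_le_ncard h1 (Set.toFinite _)).trans ?_
  have h2 := Set.ncard_image_le (s := (Set.univ : Set (Fin 8))) (f := ![1, z, c0, c1, c2, z * c0, z * c1, z * c2])
    (Set.toFinite _)
  rw [Set.image_univ, Set.ncard_univ] at h2
  simpa using h2

/-- the involution of `B` is not a label of `z` -/
theorem false_of_label (SA : SW A) (SB : SW B) (hcls : OneZ A) (hu : InZ B u) (hc : u ∈ CC A z) (hz : z ∈ CX B u) :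
    False := by
  have h1 : PP A u z ⊆ {x | x ∈ CX B u} := by
    rintro t ⟨-, ht, -⟩
    obtain ⟨g, hg, rfl⟩ := exists_move SA hcls hc ht
    exact CX_conj_comm SB.w hg hz
  have h2 := Set.ncard_le_ncard h1 (Set.toFinite _)
  rw [SA.pp_card SA.dich hc] at h2
  have h3 := cx_ncard_le SB hu
  omega

/-- **two worlds (S)** -/
theorem false_of_two (SA : SW A) (SB : SW B) (hA : OneZ A) (hB : OneZ B) (hz : InZ A z) (hu : InZ B u)
    (huz : u ∈ CX A z) (hzu : z ∈ CX B u) (hne : u ≠ z) : False := by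
  have u2 := hu.z2 SB.w
  have z2 := hz.z2 SA.w
  have u1 := hu.z1 SB.w
  have z1 := hz.z1 SA.w
  have huz' : u * z = z * u := CX_le hz SA.w huz
  rcases SA.cx z hz u huz with h1 | h1 | h1 | h1
  · exact u1 h1
  · exact hne h1
  · exact false_of_label SA SB hA hu h1 hzu
  rcases SB.cx u hu z hzu with h2 | h2 | h2 | h2
  · exact z1 h2
  · exact hne h2.symm
  · exact false_of_label SB SA hB hz h2 huz
  -- `c = z u`
  obtain ⟨c, hcd⟩ : ∃ c, c = z * u := ⟨_, rfl⟩
  rw [← hcd] at h1
  rw [huz', ← hcd] at h2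
  have huc : u = z * c := by rw [hcd, ← mul_assoc, z2, one_mul]
  have c2 := CC.sq h1
  have hcz : c * z = z * c := CC.comm_z SA.w h1
  -- `t c ∈ Z(B)` for `t` over `c`
  have key : ∀ t, c ∈ CC A t → c ∈ CC B (t * c) := by
    intro t ht
    obtain ⟨g, hg, rfl⟩ := exists_move SA hA h1 ht
    have h3 := CC.conj SB.w h2 g
    have e : g * u * g⁻¹ = g * z * g⁻¹ * c := by
      rw [huc]
      calc g * (z * c) * g⁻¹ = g * z * (c * g⁻¹) := by group
        _ = g * z * (g⁻¹ * c) := by
          have : c * g⁻¹ = g⁻¹ * c := by rw [eq_inv_mul_iff_mul_eq, ← mul_assoc, hg, mul_inv_cancel_right]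
          rw [this]
        _ = _ := by group
    rwa [e, hg, mul_inv_cancel_right] at h3
  have hsub : (fun s => s * c) '' {s | c ∈ CC A s ∧ z * s = s * z ∧ Sw A z s} ⊆ {v | Lab B u v c} := by
    rintro _ ⟨s, ⟨hs, hzs, hsw⟩, rfl⟩
    show Lab B u (s * c) c
    obtain ⟨-, -, -, h3, -, -⟩ := SA.pr_of' SA.dich h1 hs hzs hsw
    have h4 := key _ hs
    have h5 := key _ h3
    have hcs : c * s = s * c := CC.comm_z SA.w hs
    have e1 : z * s * c * c = u * (s * c) := by
      rw [huc]
      calc z * s * c * c = z * (s * c) * c := by group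
        _ = z * (c * s) * c := by rw [hcs]
        _ = _ := by group
    rw [e1] at h5
    have hne' : u ≠ s * c := by
      intro e
      have h6 : InZ B (u * (s * c)) := CC.inZ h5
      rw [← e, u2] at h6
      exact h6.z1 SB.w rfl
    have hcomm : u * (s * c) = s * c * u := by
      rw [huc]
      calc z * c * (s * c) = z * (c * s) * c := by group
        _ = z * s * (c * c) := by rw [hcs]; group
        _ = s * z * (c * c) := by rw [hzs]
        _ = s * (z * c) * c := by group
        _ = s * (c * z) * c := by rw [hcz]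
        _ = _ := by group
    rcases (SB.dch SB.dich h2 h4 hne' hcomm).alt with h6 | h6
    · exact h6.1
    · exact absurd (CC.inZ h5) h6.2.2.1
  have h3 := Set.ncard_le_ncard hsub (Set.toFinite _)
  rw [Set.ncard_image_of_injective _ (mul_left_injective c), SA.p_ncard SA.dich h1, SB.lab_ncard SB.dich h2] at h3
  omega

end Cfsg.Agent.Cit.Nil.Two
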